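import Cfsg.Agent.Lib.Regular.Basic

/-!
Regular `p`-groups: `a^q = b^q ↔ (a b⁻¹)^q = 1`, the elements killed by `q = p^n` form a subgroup,
and `a^q` commutes with `b` iff the commutator is killed by `q`.
-/

namespace Cfsg.Agent.Lib.Regular

open Cfsg
open scoped commutatorElement

variable {G : Type*} [Group G] {p : ℕ}

theorem regular_mul_inv_pow_eq_one [Finite G] [Fact p.Prime] (hG : IsRegularPGroup p G) (n : ℕ)
    (a b : G) (h : a ^ p ^ n = b ^ p ^ n) : (a * b⁻¹) ^ p ^ n = 1 := by
  suffices key : ∀ (k : ℕ) (a b : G), Nat.card (Subgroup.closure ({a, b} : Set G)) ≤ k →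
      a ^ p ^ n = b ^ p ^ n → (a * b⁻¹) ^ p ^ n = 1 from key _ a b le_rfl h
  intro k
  induction k using Nat.strong_induction_on with
  | _ k ih =>
    intro a b hk hab
    set H := Subgroup.closure ({a, b} : Set G) with hH
    have haH : a ∈ H := left_mem_closure_pair a b
    have hbH : b ∈ H := right_mem_closure_pair a b
    rcases eq_or_ne ⁅H, H⁆ ⊥ with hD | hD
    · have hc : Commute a b⁻¹ := by
        have := Subgroup.commutator_eq_bot_iff_le_centralizer.mp hD hbH
        exact (Subgroup.mem_centralizer_iff.mp this a haH : a * b = b * a) |> fun e => (show Commute a b from e).inv_right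
      rw [hc.mul_pow, hab, inv_pow, mul_inv_cancel]
    have hpH : IsPGroup p H := hG.1.to_subgroup H
    have hlt : ∀ K : Subgroup G, K < H → ∀ x ∈ K, ∀ y ∈ K, x ^ p ^ n = y ^ p ^ n →
        (x * y⁻¹) ^ p ^ n = 1 := by
      intro K hK x hx y hy hxy
      have hcard : Nat.card (Subgroup.closure ({x, y} : Set G)) < Nat.card H :=
        lt_of_le_of_lt (Subgroup.card_le_of_le (closure_pair_le hx hy))
          (lt_of_le_of_ne (Subgroup.card_le_of_le hK.le)
            (fun e => hK.ne (Subgroup.eq_of_le_of_card_ge hK.le e.ge)))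
      exact ih _ (lt_of_lt_of_le hcard hk) x y le_rfl hxy
    have hDH : ⁅H, H⁆ ≤ H := Subgroup.commutator_le_self H
    have hDlt : ⁅H, H⁆ < H := by
      refine lt_of_le_of_ne hDH fun e => hD ?_
      have h1 := eq_of_sup_commutator (K := ⊥) hpH bot_le (by rw [bot_sup_eq]; exact e)
      exact le_bot_iff.mp (hDH.trans h1.ge)
    have hnorm : H ≤ Subgroup.normalizer ((⁅H, H⁆ : Subgroup G) : Set G) := le_normalizer_commutator_self H
    have hK : Subgroup.zpowers a ⊔ ⁅H, H⁆ < H := by
      refine lt_of_le_of_ne (sup_le (Subgroup.zpowers_le.mpr haH) hDH) fun e => hD ?_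
      have h1 := eq_of_sup_commutator hpH (Subgroup.zpowers_le.mpr haH) e
      rw [← h1, Subgroup.commutator_eq_bot_iff_le_centralizer]
      exact Subgroup.le_centralizer _
    -- the commutator is killed
    have hab' : ⁅a, b⁆ ^ p ^ n = 1 := by
      have hconj : (b * a * b⁻¹) ^ p ^ n = a ^ p ^ n := by
        rw [conj_pow, hab, (Commute.self_pow b _).eq, mul_inv_cancel_right]
      have hmem : b * a * b⁻¹ ∈ Subgroup.zpowers a ⊔ ⁅H, H⁆ := by
        have : b * a * b⁻¹ = ⁅b, a⁆ * a := by rw [commutatorElement_def]; group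
        rw [this]
        exact mul_mem (Subgroup.mem_sup_right (Subgroup.commutator_mem_commutator hbH haH))
          (Subgroup.mem_sup_left (Subgroup.mem_zpowers a))
      have := hlt _ hK a (Subgroup.mem_sup_left (Subgroup.mem_zpowers a)) _ hmem hconj.symm
      have e : ⁅a, b⁆ = a * (b * a * b⁻¹)⁻¹ := by rw [commutatorElement_def]; group
      rw [e]; exact this
    let M : Subgroup G :=
      { carrier := {x | x ∈ ⁅H, H⁆ ∧ x ^ p ^ n = 1}
        one_mem' := ⟨one_mem _, one_pow _⟩
        mul_mem' := fun {x y} hx hy => ⟨mul_mem hx.1 hy.1, by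
          have := hlt _ hDlt x hx.1 y⁻¹ (inv_mem hy.1) (by rw [hx.2, inv_pow, hy.2, inv_one])
          rwa [inv_inv] at this⟩
        inv_mem' := fun {x} hx => ⟨inv_mem hx.1, by rw [inv_pow, hx.2, inv_one]⟩ }
    have hMn : ∀ s ∈ ({a, b} : Set G), s ∈ Subgroup.normalizer (M : Set G) := by
      intro s hs
      have hsH : s ∈ H := Subgroup.subset_closure hs
      have hfw : ∀ g ∈ H, ∀ x ∈ M, g * x * g⁻¹ ∈ M := fun g hg x hx =>
        ⟨(Subgroup.mem_normalizer_iff.mp (hnorm hg) x).mp hx.1, by rw [conj_pow, hx.2, mul_one, mul_inv_cancel]⟩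
      rw [Subgroup.mem_normalizer_iff]
      refine fun x => ⟨hfw s hsH x, fun hx => ?_⟩
      simpa [mul_assoc] using hfw s⁻¹ (inv_mem hsH) _ hx
    have hDM : ⁅H, H⁆ ≤ M := by
      refine commutator_closure_le hMn ?_
      have hm : ⁅a, b⁆ ∈ M := ⟨Subgroup.commutator_mem_commutator haH hbH, hab'⟩
      rintro s (rfl | rfl) t (rfl | rfl)
      · simp
      · exact hm
      · rw [← commutatorElement_inv]; exact inv_mem hm
      · simp
    obtain ⟨c, hc, he⟩ := hG.2 a b⁻¹ n
    have hc1 : c = 1 := by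
      have hle : powerClosure p n ⁅Subgroup.closure ({a, b⁻¹} : Set G), Subgroup.closure ({a, b⁻¹} : Set G)⁆ ≤ ⊥ := by
        refine (Subgroup.closure_le _).mpr ?_
        rintro _ ⟨x, hx, rfl⟩
        exact (hDM (Subgroup.commutator_mono (closure_pair_le haH (inv_mem hbH))
          (closure_pair_le haH (inv_mem hbH)) hx)).2
      exact Subgroup.mem_bot.mp (hle hc)
    rw [he, hc1, mul_one, hab, inv_pow, mul_inv_cancel]

theorem regular_pow_eq_one_mul [Finite G] [Fact p.Prime] (hG : IsRegularPGroup p G) {n : ℕ}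
    {x y : G} (hx : x ^ p ^ n = 1) (hy : y ^ p ^ n = 1) : (x * y) ^ p ^ n = 1 := by
  have := regular_mul_inv_pow_eq_one hG n x y⁻¹ (by rw [hx, inv_pow, hy, inv_one])
  rwa [inv_inv] at this

/-- The subgroup of elements killed by `p ^ n` of a regular group. -/
def regularOmega [Finite G] [Fact p.Prime] (hG : IsRegularPGroup p G) (n : ℕ) : Subgroup G where
  carrier := {x | x ^ p ^ n = 1}
  one_mem' := one_pow _
  mul_mem' := fun hx hy => regular_pow_eq_one_mul hG hx hy
  inv_mem' := fun {x} hx => by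
    show x⁻¹ ^ p ^ n = 1
    rw [inv_pow, (hx : x ^ p ^ n = 1), inv_one]

theorem regularOmega_characteristic [Finite G] [Fact p.Prime] (hG : IsRegularPGroup p G) (n : ℕ) :
    (regularOmega hG n).Characteristic := by
  refine Subgroup.characteristic_iff_comap_eq.mpr fun φ => ?_
  ext x
  show φ x ^ p ^ n = 1 ↔ x ^ p ^ n = 1
  rw [← map_pow]
  exact map_eq_one_iff _ φ.injective

theorem regular_pow_eq_iff [Finite G] [Fact p.Prime] (hG : IsRegularPGroup p G) (n : ℕ) (a b : G) :
    a ^ p ^ n = b ^ p ^ n ↔ (a * b⁻¹) ^ p ^ n = 1 := by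
  refine ⟨regular_mul_inv_pow_eq_one hG n a b, fun hx => ?_⟩
  set x := a * b⁻¹ with hxdef
  have ha : a = x * b := by rw [hxdef, inv_mul_cancel_right]
  have hcomm : ⁅b, x⁆ ^ p ^ n = 1 := by
    have h1 : (b * x * b⁻¹) ^ p ^ n = x ^ p ^ n := by rw [conj_pow, hx, mul_one, mul_inv_cancel]
    rw [commutatorElement_def]
    exact regular_mul_inv_pow_eq_one hG n _ _ h1
  have hle : ⁅Subgroup.closure ({x, b} : Set G), Subgroup.closure ({x, b} : Set G)⁆ ≤ regularOmega hG n := by
    refine commutator_closure_le (fun s _ => ?_) ?_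
    · haveI := regularOmega_characteristic hG n
      rw [Subgroup.normalizer_eq_top_iff.mpr inferInstance]
      exact Subgroup.mem_top s
    · rintro s (rfl | rfl) t (rfl | rfl)
      · simp
      · rw [← commutatorElement_inv]; exact inv_mem hcomm
      · exact hcomm
      · simp
  obtain ⟨c, hc, he⟩ := hG.2 x b n
  have hc1 : c = 1 := by
    have h2 : powerClosure p n ⁅Subgroup.closure ({x, b} : Set G), Subgroup.closure ({x, b} : Set G)⁆ ≤ ⊥ := by
      refine (Subgroup.closure_le _).mpr ?_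
      rintro _ ⟨y, hy, rfl⟩
      exact hle hy
    exact Subgroup.mem_bot.mp (h2 hc)
  rw [ha, he, hc1, hx, one_mul, mul_one]

theorem regular_commute_pow_iff [Finite G] [Fact p.Prime] (hG : IsRegularPGroup p G) (n : ℕ) (a b : G) :
    a ^ p ^ n * b = b * a ^ p ^ n ↔ (a⁻¹ * b⁻¹ * a * b) ^ p ^ n = 1 := by
  have h1 : a ^ p ^ n * b = b * a ^ p ^ n ↔ (b⁻¹ * a * b) ^ p ^ n = a ^ p ^ n := by
    have : (b⁻¹ * a * b) ^ p ^ n = b⁻¹ * a ^ p ^ n * b := by
      have := conj_pow (i := p ^ n) (a := b⁻¹) (b := a)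
      rwa [inv_inv] at this
    rw [this]
    constructor
    · intro h; rw [mul_assoc, h, inv_mul_cancel_left]
    · intro h
      calc a ^ p ^ n * b = b * (b⁻¹ * a ^ p ^ n * b) := by group
        _ = b * a ^ p ^ n := by rw [h]
  rw [h1, regular_pow_eq_iff hG]
  have h2 : (b⁻¹ * a * b * a⁻¹) ^ p ^ n = a * (a⁻¹ * b⁻¹ * a * b) ^ p ^ n * a⁻¹ := by
    rw [← conj_pow]; congr 1; group
  rw [h2, conj_eq_one_iff]

end Cfsg.Agent.Lib.Regular
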